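import Groth.Agent.FibGenLib.Model
import Groth.Agent.K0Fam.Canon
import Groth.Agent.DCohLib.PullKFlat
import Groth.Agent.DCohLib.PerfCoh
import Groth.Agent.DCohLib.ProjMap
import Groth.Agent.DCohLib.TensorPerf
import Groth.Agent.DCohLib.StalkKFlat
import Groth.Agent.KRRAmple.PushCl
import Groth.Agent.TildeOpenLib.Basic
import Groth.Agent.DevLib.TFSub

/-!
# Generation of `K₀(Coh X)` from generation on the fibres
-/

set_option autoImplicit false
set_option backward.isDefEq.respectTransparency false
set_option linter.style.haveILetI false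
set_option linter.unusedSectionVars false

universe u

open CategoryTheory CategoryTheory.Limits AlgebraicGeometry TopologicalSpace Opposite TensorProduct IsLocalRing
open Groth.Agent.PullbackMod Groth.Agent.DCohLib

noncomputable section

namespace Groth.Agent.FibGenLib

variable {X S : Scheme.{u}} (f : X ⟶ S)

/-- The maximal ideal downstairs kills the stalk at `x`. -/
def Kills (M : X.Modules) (x : X) : Prop :=
  ∀ a ∈ maximalIdeal (S.presheaf.stalk (f x)), ∀ m : M.presheaf.stalk x, f.stalkMap x a • m = 0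

theorem bijective_pullStalk_of_kill {Y Z : Scheme.{u}} (g : Y ⟶ Z) (T : Z.Modules) (y : Y)
    (hs : Function.Surjective (g.stalkMap y))
    (hk : ∀ a, g.stalkMap y a = 0 → ∀ m : T.presheaf.stalk (g y), a • m = 0) :
    Function.Bijective (pullStalk g T y) := by
  letI := (g.stalkMap y).hom.toAlgebra
  let A := Z.presheaf.stalk (g y)
  let B := Y.presheaf.stalk y
  let sec : B → A := fun b => (hs b).choose
  have hsec : ∀ b, g.stalkMap y (sec b) = b := fun b => (hs b).choose_spec
  have hwd : ∀ a a' : A, g.stalkMap y a = g.stalkMap y a' → ∀ m : T.presheaf.stalk (g y), a • m = a' • m :=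
    fun a a' h m => sub_eq_zero.1 (by rw [← sub_smul]; exact hk _ (by rw [map_sub, h, sub_self]) m)
  let φ₀ : B →+ T.presheaf.stalk (g y) →+ T.presheaf.stalk (g y) :=
    AddMonoidHom.mk' (fun b => DistribMulAction.toAddMonoidHom _ (sec b)) fun b c => AddMonoidHom.ext fun m => by
      show sec (b + c) • m = sec b • m + sec c • m
      rw [← add_smul]
      exact hwd _ _ (by rw [map_add, hsec, hsec, hsec]) m
  let φ : B ⊗[A] T.presheaf.stalk (g y) →+ T.presheaf.stalk (g y) := TensorProduct.liftAddHom φ₀ fun a b m => by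
    show sec (a • b) • m = sec b • a • m
    rw [smul_smul]
    refine hwd _ _ ?_ m
    rw [map_mul, hsec, hsec, Algebra.smul_def, mul_comm]
    rfl
  let e := pullStalkEquiv g y T
  refine ⟨(injective_iff_map_eq_zero _).2 fun m hm => ?_, fun v => ?_⟩
  · have h1 : (1 : B) ⊗ₜ[A] m = 0 := e.injective (by rw [pullStalkEquiv_tmul, one_smul, hm, map_zero])
    have h2 := congrArg φ h1
    rw [map_zero, TensorProduct.liftAddHom_tmul] at h2
    have h3 : sec 1 • m = (1 : A) • m := hwd _ _ (by rw [hsec, map_one]) m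
    rw [one_smul] at h3
    exact h3.symm.trans h2
  · obtain ⟨w, rfl⟩ := e.surjective v
    induction w using TensorProduct.induction_on with
    | zero => exact ⟨0, by rw [map_zero, map_zero]⟩
    | add a b ha hb =>
      obtain ⟨a', ha'⟩ := ha
      obtain ⟨b', hb'⟩ := hb
      exact ⟨a' + b', by rw [map_add, map_add, ha', hb']⟩
    | tmul b m =>
      obtain ⟨a, rfl⟩ := hs b
      exact ⟨a • m, by rw [pullStalkEquiv_tmul, pullStalk_smul]⟩

theorem smul_eq_zero_of_ker (s : S) {M : X.Modules} (z : f.fiber s) (hk : Kills f M (f.fiberι s z))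
    (a : X.presheaf.stalk (f.fiberι s z)) (ha : (f.fiberι s).stalkMap z a = 0)
    (m : M.presheaf.stalk (f.fiberι s z)) : a • m = 0 := by
  have h : (maximalIdeal (S.presheaf.stalk (f (f.fiberι s z)))).map (f.stalkMap (f.fiberι s z)).hom ≤
      Module.annihilator (X.presheaf.stalk (f.fiberι s z)) (M.presheaf.stalk (f.fiberι s z)) :=
    Ideal.map_le_iff_le_comap.2 fun b hb => Module.mem_annihilator.2 fun w => hk b hb w
  exact Module.mem_annihilator.1 (h (by rw [← FlatLocus.ker_fiberι_stalkMap]; exact ha)) m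

theorem isModel_pullback (s : S) {M : X.Modules} (hM : Coh.IsCoh M) (hs : ∀ x ∈ CohB1.support M, s ⤳ f x)
    (hk : ∀ x, f x = s → Kills f M x) :
    IsModel f s ((Scheme.Modules.pullback (f.fiberι s)).obj M) M
      ((Scheme.Modules.pullbackPushforwardAdjunction (f.fiberι s)).unit.app M) := by
  refine ⟨hM, hs, fun z => ?_⟩
  have h := bijective_pullStalk_of_kill (f.fiberι s) M z (FlatLocus.fiberι_stalkMap_surjective f s z)
    (smul_eq_zero_of_ker f s z (hk _ (f_fiberι f s z)))
  have e : ∀ w, atFib f s ((Scheme.Modules.pullbackPushforwardAdjunction (f.fiberι s)).unit.app M) z w =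
      pullStalk (f.fiberι s) M z w := fun w => unit_stalk_pushStalk (f.fiberι s) M z w
  exact ⟨fun a b hab => h.1 (by rwa [← e, ← e]), fun v => (h.2 v).imp fun a ha => (e a).trans ha⟩

theorem smul_eq_zero_of_simple {R : Type u} [CommRing R] [IsLocalRing R] {M : Type u} [AddCommGroup M] [Module R M]
    [IsSimpleModule R M] {r : R} (hr : r ∈ maximalIdeal R) (m : M) : r • m = 0 := by
  obtain ⟨I, hI, ⟨e⟩⟩ := isSimpleModule_iff_quot_maximal.1 (inferInstance : IsSimpleModule R M)
  refine e.injective ?_
  rw [map_smul, map_zero]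
  obtain ⟨b, hb⟩ := Ideal.Quotient.mk_surjective (e m)
  rw [← hb, Algebra.smul_def, ← Ideal.Quotient.mk_algebraMap, ← map_mul, Ideal.Quotient.eq_zero_iff_mem]
  exact I.mul_mem_right _ (by rw [IsLocalRing.eq_maximalIdeal hI]; exact hr)

theorem germ_not_unit (U : S.Opens) (t : Γ(S, U)) {p q : S} (e : p = q) (hp : p ∈ U) (hq : q ∈ U)
    (h : S.presheaf.germ U p hp t ∈ maximalIdeal (S.presheaf.stalk p)) :
    S.presheaf.germ U q hq t ∈ maximalIdeal (S.presheaf.stalk q) := by
  subst e
  exact h

/-- Pieces with generic point over `f x` are killed at `x` by the maximal ideal downstairs. -/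
theorem kills_piece {ξ : X} {Q : X.Modules} (hQ : DevLib.IsPiece ξ Q) {x : X} (he : f x = f ξ) : Kills f Q x := by
  intro a ha m
  haveI := hQ.simple
  obtain ⟨U, hU, t, rfl⟩ := TopCat.Presheaf.exists_germ_eq S.presheaf a
  obtain ⟨W, hW, w, rfl⟩ := TopCat.Presheaf.exists_germ_eq Q.presheaf m
  let V := f ⁻¹ᵁ U ⊓ W
  let r : Γ(X, V) := X.presheaf.map (homOfLE (inf_le_left : V ≤ f ⁻¹ᵁ U)).op (f.app U t)
  let σ : Γ(Q, V) := r • Q.presheaf.map (homOfLE (inf_le_right : V ≤ W)).op w
  have hσ : ∀ (y : X) (hy : y ∈ V), Q.presheaf.germ V y hy σ =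
      f.stalkMap y (S.presheaf.germ U (f y) hy.1 t) • Q.presheaf.germ W y hy.2 w := fun y hy => by
    refine (PresheafOfModules.germ_smul (R := X.presheaf) Q.val y V hy _ _).trans ?_
    rw [Scheme.Hom.germ_stalkMap_apply, ← X.presheaf.germ_res_apply (homOfLE (inf_le_left : V ≤ f ⁻¹ᵁ U)) y hy,
      ← Q.presheaf.germ_res_apply (homOfLE (inf_le_right : V ≤ W)) y hy]
    rfl
  have h0 : σ = 0 := hQ.tf V σ fun hξ => by
    rw [hσ ξ hξ]
    refine smul_eq_zero_of_simple ?_ _
    exact map_nonunit (f.stalkMap ξ).hom _ (germ_not_unit U t he hU hξ.1 ha)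
  have := hσ x ⟨hU, hW⟩
  rw [h0, map_zero] at this
  exact this.symm

/-- The sheaves pulled back from a sheaf killed by the maximal ideal are killed. -/
theorem kills_pullback (T : S.Modules) (x : X)
    (h : ∀ a ∈ maximalIdeal (S.presheaf.stalk (f x)), ∀ m : T.presheaf.stalk (f x), a • m = 0) :
    Kills f ((Scheme.Modules.pullback f).obj T) x := by
  intro a ha v
  letI := (f.stalkMap x).hom.toAlgebra
  obtain ⟨w, rfl⟩ := (pullStalkEquiv f x T).surjective v
  induction w using TensorProduct.induction_on with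
  | zero => rw [map_zero, smul_zero]
  | add b c hb hc => rw [map_add, smul_add, hb, hc, add_zero]
  | tmul b m => rw [pullStalkEquiv_tmul, smul_comm, ← pullStalk_smul, h a ha m, map_zero, smul_zero]

theorem support_pullback (T : S.Modules) {x : X}
    (hx : x ∈ CohB1.support ((Scheme.Modules.pullback f).obj T)) : f x ∈ CohB1.support T := fun hs => by
  letI := (f.stalkMap x).hom.toAlgebra
  refine hx (subsingleton_of_forall_eq 0 fun v => ?_)
  obtain ⟨w, rfl⟩ := (pullStalkEquiv f x T).surjective v
  induction w using TensorProduct.induction_on with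
  | zero => rw [map_zero]
  | add b c hb hc => rw [map_add, hb, hc, add_zero]
  | tmul b m =>
    haveI := hs
    rw [Subsingleton.elim m 0, tmul_zero, map_zero]

theorem kills_tensor (E N : X.Modules) (x : X) (h : Kills f N x) :
    Kills f (((DCoh.tensorBi (X := X)).obj E).obj N) x := by
  intro a ha v
  obtain ⟨w, rfl⟩ := (stalkTensor x E N).surjective v
  induction w using TensorProduct.induction_on with
  | zero => rw [map_zero, smul_zero]
  | add b c hb hc => rw [map_add, smul_add, hb, hc, add_zero]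
  | tmul b m => rw [← map_smul, ← TensorProduct.tmul_smul, h a ha m, tmul_zero, map_zero]

theorem support_tensor (E N : X.Modules) {x : X}
    (hx : x ∈ CohB1.support (((DCoh.tensorBi (X := X)).obj E).obj N)) : x ∈ CohB1.support N := fun hs => by
  refine hx (subsingleton_of_forall_eq 0 fun v => ?_)
  obtain ⟨w, rfl⟩ := (stalkTensor x E N).surjective v
  induction w using TensorProduct.induction_on with
  | zero => rw [map_zero]
  | add b c hb hc => rw [map_add, hb, hc, add_zero]
  | tmul b m =>
    haveI := hs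
    rw [Subsingleton.elim m 0, tmul_zero, map_zero]

theorem exists_residue_iso_of {Z : Scheme.{u}} (i : Z ⟶ S) [IsClosedImmersion i] (z : Z) {s : S} (e : i z = s) :
    Nonempty ((Scheme.Modules.pullback (S.fromSpecResidueField s)).obj
      ((Scheme.Modules.pushforward i).obj (Coh.structureModule Z)) ≅ Coh.structureModule (Spec (S.residueField s))) := by
  subst e
  have hsurj : Function.Surjective (i.residueFieldMap z) := fun b => by
    obtain ⟨b', rfl⟩ := Ideal.Quotient.mk_surjective b
    obtain ⟨a, rfl⟩ := i.stalkMap_surjective z b'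
    exact ⟨S.residue _ a, ConcreteCategory.congr_hom (Scheme.residue_residueFieldMap i z) a⟩
  haveI : IsIso (i.residueFieldMap z) :=
    (ConcreteCategory.isIso_iff_bijective _).2 ⟨(i.residueFieldMap z).hom.injective, hsurj⟩
  let h' := inv (Spec.map (i.residueFieldMap z)) ≫ Z.fromSpecResidueField z
  have hh : h' ≫ i = S.fromSpecResidueField (i z) := by
    rw [Category.assoc, ← Scheme.Hom.SpecMap_residueFieldMap_fromSpecResidueField, IsIso.inv_hom_id_assoc]
  haveI := isIso_counit_closedImmersion i (Coh.structureModule Z)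
  exact ⟨(Scheme.Modules.pullbackCongr hh).symm.app _ ≪≫ (Scheme.Modules.pullbackComp h' i).symm.app _ ≪≫
    (Scheme.Modules.pullback h').mapIso
      (asIso ((Scheme.Modules.pullbackPushforwardAdjunction i).counit.app _)) ≪≫ pullStructureIso h'⟩

/-- The structure sheaf of the closure of a point restricts to that of the residue field. -/
theorem exists_residue_iso (s : S) : Nonempty ((Scheme.Modules.pullback (S.fromSpecResidueField s)).obj
    (Cyc.closureStructureSheaf s) ≅ Coh.structureModule (Spec (S.residueField s))) := by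
  have hr : Set.range (IntMult.ptIdeal s).subschemeι = closure {s} := by
    rw [Scheme.IdealSheafData.range_subschemeι]
    show ((Scheme.IdealSheafData.vanishingIdeal (⟨closure {s}, isClosed_closure⟩ : Closeds S)).support : Set S) = _
    rw [Scheme.IdealSheafData.coe_support_vanishingIdeal]
    rfl
  obtain ⟨z, hz⟩ : s ∈ Set.range (IntMult.ptIdeal s).subschemeι := hr ▸ subset_closure rfl
  exact exists_residue_iso_of _ z hz

/-- `O` on the fibre is the restriction of the inverse image of the structure sheaf of the closure. -/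
theorem exists_fibre_iso (s : S) : Nonempty ((Scheme.Modules.pullback (f.fiberι s)).obj
    ((Scheme.Modules.pullback f).obj (Cyc.closureStructureSheaf s)) ≅ Coh.structureModule (f.fiber s)) := by
  obtain ⟨e⟩ := exists_residue_iso s
  exact ⟨(Scheme.Modules.pullbackComp (f.fiberι s) f).app _ ≪≫
    (Scheme.Modules.pullbackCongr (f.fiber_fac s)).app _ ≪≫
    (Scheme.Modules.pullbackComp (f.fiberToSpecResidueField s) (S.fromSpecResidueField s)).symm.app _ ≪≫
    (Scheme.Modules.pullback (f.fiberToSpecResidueField s)).mapIso e ≪≫ pullStructureIso _⟩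

theorem kills_closure (s : S) {x : X} (hx : f x = s) :
    Kills f ((Scheme.Modules.pullback f).obj (Cyc.closureStructureSheaf s)) x := by
  subst hx
  haveI := (K0Fam.isPiece_closureStructureSheaf (f x)).simple
  exact kills_pullback f _ x fun a ha m => smul_eq_zero_of_simple ha m

theorem supp_closure (s : S) {x : X}
    (hx : x ∈ CohB1.support ((Scheme.Modules.pullback f).obj (Cyc.closureStructureSheaf s))) : s ⤳ f x :=
  (K0Fam.isPiece_closureStructureSheaf s).supp _ (support_pullback f _ hx)

/-- Isomorphic coherent sheaves on a fibre have the same class. -/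
theorem cl_congr [IsNoetherian X] {s : S} {M N : (f.fiber s).Modules} (e : M ≅ N) (hM : Coh.IsCoh M) :
    K0LocLib.cl N = K0LocLib.cl M := by
  have hN : Coh.IsCoh N := TildeOpenLib.isCoh_of_iso' e hM
  haveI : IsLocallyNoetherian X := inferInstance
  have h0 : IsZero (cokernel (𝟙 (Coh.structureModule X))) := isZero_cokernel_of_epi _
  have hk : Coh.IsCoh (kernel e.hom) := TildeOpenLib.isCoh_of_iso'
    ((((Scheme.Modules.pullback (f.fiberι s)).map_isZero h0)).iso (isZero_kernel_of_mono e.hom))
    (isCoh_pullback (f.fiberι s) _ (DevLib.isCoh_of_isZero h0))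
  have h := K0ResLib.clSub_add (P := fun M : (f.fiber s).Modules => Coh.IsCoh M)
    (K0ResLib.kerSC_shortExact e.hom) hk hM hN
  have hz : IsZero (kernel e.hom) := isZero_kernel_of_mono e.hom
  have hS : (ShortComplex.mk (𝟙 (kernel e.hom)) (0 : kernel e.hom ⟶ kernel e.hom) (by simp)).ShortExact :=
    { exact := ShortComplex.exact_of_isZero_X₂ _ hz
      mono_f := inferInstance
      epi_g := hz.epi _ }
  have h' := K0ResLib.clSub_add (P := fun M : (f.fiber s).Modules => Coh.IsCoh M) hS hk hk hk
  rw [left_eq_add.1 h', zero_add] at h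
  exact h.symm

/-- A family of sheaves over the closure of `s` whose restrictions to the fibre generate. -/
def GenAt (R : AddSubgroup (K0LocLib.K X)) (s : S) : Prop :=
  ∃ (ι : Type) (P : ι → X.Modules), (∀ i, Coh.IsCoh (P i) ∧ (∀ x ∈ CohB1.support (P i), s ⤳ f x) ∧
      (∀ x, f x = s → Kills f (P i) x) ∧ K0LocLib.cl (P i) ∈ R) ∧
    AddSubgroup.closure (Set.range fun i => K0LocLib.cl ((Scheme.Modules.pullback (f.fiberι s)).obj (P i))) = ⊤

theorem cl_mem_of_devissage [IsNoetherian X] (R : AddSubgroup (K0LocLib.K X)) (T : Set X)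
    (h : ∀ ξ ∈ T, closure {ξ} ⊆ T → ∀ Q : X.Modules, DevLib.IsPiece ξ Q → K0LocLib.cl Q ∈ R)
    {G : X.Modules} (hG : Coh.IsCoh G) (hT : CohB1.support G ⊆ T) : K0LocLib.cl G ∈ R := by
  refine DevLib.devissage T (fun M => Coh.IsCoh M → K0LocLib.cl M ∈ R) (fun M N ⟨e⟩ hP hN => ?_)
    (fun M hM _ => ?_) (fun C hC h₁ h₂ h₃ _ p₁ p₃ _ => ?_) (fun ξ hξ hc Q hQ _ _ => h ξ hξ hc Q hQ) G hG hT hG
  · have hM : Coh.IsCoh M := DCohLib.isCoh_iso e.symm hN
    rw [K0LocLib.cl_iso e hM]
    exact hP hM
  · rw [K0LocLib.cl_isZero hM]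
    exact zero_mem R
  · rw [K0LocLib.cl_add hC h₁ h₂ h₃]
    exact add_mem (p₁ h₁) (p₃ h₃)

theorem closure_lt {s t : S} (h : s ⤳ t) (hne : t ≠ s) :
    (⟨closure {t}, isClosed_closure⟩ : Closeds S) < ⟨closure {s}, isClosed_closure⟩ := by
  refine lt_of_le_of_ne (show closure {t} ⊆ closure {s} from h.closure_subset) fun he => hne ?_
  have h' : s ∈ closure {t} := (SetLike.ext_iff.1 he s).2 (subset_closure rfl)
  exact ((specializes_iff_mem_closure.2 h').antisymm h).eq

theorem cl_mem_of_supp [IsNoetherian X] [IsNoetherian S] (R : AddSubgroup (K0LocLib.K X))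
    (hR : ∀ s, GenAt f R s) : ∀ (s : S) (G : X.Modules), Coh.IsCoh G → (∀ x ∈ CohB1.support G, s ⤳ f x) →
      K0LocLib.cl G ∈ R := by
  suffices H : ∀ (C : Closeds S) (s : S), (C : Set S) = closure {s} → ∀ G : X.Modules, Coh.IsCoh G →
      (∀ x ∈ CohB1.support G, s ⤳ f x) → K0LocLib.cl G ∈ R from
    fun s => H ⟨_, isClosed_closure⟩ s rfl
  intro C
  induction C using WellFoundedLT.induction with
  | _ C IH =>
    intro s hC
    have hC' : C = ⟨closure {s}, isClosed_closure⟩ := SetLike.ext' hC
    have IH' : ∀ (ξ : X) (Q : X.Modules), DevLib.IsPiece ξ Q → s ⤳ f ξ → f ξ ≠ s → K0LocLib.cl Q ∈ R :=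
      fun ξ Q hQ hξ hne => IH _ (hC' ▸ closure_lt hξ hne) (f ξ) rfl Q hQ.coh
        fun x hx => (hQ.supp x hx).map f.continuous
    have hlow : Low f s ≤ R := by
      refine (AddSubgroup.closure_le R).2 ?_
      rintro _ ⟨G, hG, hsG, rfl⟩
      exact cl_mem_of_devissage R {x | s ⤳ f x ∧ f x ≠ s} (fun ξ hξ _ Q hQ => IH' ξ Q hQ hξ.1 hξ.2) hG hsG
    intro G hG hsG
    refine cl_mem_of_devissage R {x | s ⤳ f x} (fun ξ hξ _ Q hQ => ?_) hG hsG
    by_cases he : f ξ = s
    swap
    · exact IH' ξ Q hQ hξ he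
    have hmQ := isModel_pullback f s hQ.coh (fun x hx => hξ.trans ((hQ.supp x hx).map f.continuous))
      fun x hx => kills_piece f hQ (hx.trans he.symm)
    have e1 := psi_eq f s (isCoh_pullback (f.fiberι s) Q hQ.coh) hmQ
    obtain ⟨ι, P, hP, htop⟩ := hR s
    have hle : AddSubgroup.closure
        (Set.range fun i => K0LocLib.cl ((Scheme.Modules.pullback (f.fiberι s)).obj (P i))) ≤
        (R.map (QuotientAddGroup.mk' (Low f s))).comap (psi f s) := by
      rw [AddSubgroup.closure_le]
      rintro _ ⟨i, rfl⟩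
      obtain ⟨h1, h2, h3, h4⟩ := hP i
      refine ⟨_, h4, ?_⟩
      exact (psi_eq f s (isCoh_pullback (f.fiberι s) (P i) h1) (isModel_pullback f s h1 h2 h3)).symm
    rw [htop] at hle
    obtain ⟨r, hr, hre⟩ := hle (AddSubgroup.mem_top (K0LocLib.cl ((Scheme.Modules.pullback (f.fiberι s)).obj Q)))
    rw [e1] at hre
    have := hlow (QuotientAddGroup.eq_iff_sub_mem.1 hre)
    simpa using sub_mem hr this

theorem eq_top [IsNoetherian X] [IsNoetherian S] (R : AddSubgroup (K0LocLib.K X))
    (hR : ∀ s, GenAt f R s) : R = ⊤ := by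
  refine eq_top_iff.2 fun c hc => ?_
  clear hc
  obtain ⟨c, rfl⟩ := QuotientAddGroup.mk_surjective c
  induction c using FreeAbelianGroup.induction_on with
  | zero => exact zero_mem R
  | of F =>
    have h := cl_mem_of_devissage R Set.univ (fun ξ _ _ Q hQ =>
      cl_mem_of_supp f R hR (f ξ) Q hQ.coh fun x hx => (hQ.supp x hx).map f.continuous) F.2 (Set.subset_univ _)
    rwa [K0LocLib.cl, KZero.clSub, dif_pos F.2] at h
  | neg F h => exact neg_mem h
  | add a b ha hb => exact add_mem ha hb

end Groth.Agent.FibGenLib
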