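import Groth.Agent.K0LocLib.Basic
import Groth.Agent.DCohLib.ClosedPush
import Groth.Agent.DCohLib.Pullback
import Groth.Agent.SyzLib.Sheaf
import Groth.Agent.FlatQuotLib.Basic
import Groth.Agent.FlatLocus.FibreStalk
import Groth.Agent.AmpleEmb.Generated
import Groth.Agent.S0014
import Groth.Agent.DevLib.Power
import Groth.Agent.QCohLib.Push
import Groth.Agent.PullbackMod.Props

/-!
# Coherent models of coherent sheaves on a fibre

A model on `X` of a coherent sheaf on the fibre `X_s` is a coherent sheaf supported over the closure of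
`s` with a map to the direct image which is bijective at the points over `s`; two models agree in
`K₀(Coh X)` modulo sheaves supported strictly over the closure of `s`.
-/

set_option autoImplicit false
set_option backward.isDefEq.respectTransparency false
set_option linter.style.haveILetI false
set_option linter.unusedSectionVars false

universe u

open CategoryTheory CategoryTheory.Limits AlgebraicGeometry TopologicalSpace Opposite
open Groth.Agent.PullbackMod Groth.Agent.DCohLib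

noncomputable section

namespace Groth.Agent.FibGenLib

variable {X S : Scheme.{u}} (f : X ⟶ S) (s : S)

theorem isAffineHom_point {K : Type u} [Field K] (g : Spec (CommRingCat.of K) ⟶ S) : IsAffineHom g := by
  refine ⟨fun U _ => ?_⟩
  by_cases h : ∃ x, x ∈ g ⁻¹ᵁ U
  · obtain ⟨x, hx⟩ := h
    have : g ⁻¹ᵁ U = ⊤ := eq_top_iff.2 fun y _ => by rwa [Subsingleton.elim y x]
    rw [this]
    exact isAffineOpen_top _
  · have : g ⁻¹ᵁ U = ⊥ := eq_bot_iff.2 fun y hy => (h ⟨y, hy⟩).elim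
    rw [this]
    exact isAffineOpen_bot _

theorem isAffineHom_fiberι : IsAffineHom (f.fiberι s) :=
  haveI : IsAffineHom (S.fromSpecResidueField s) := isAffineHom_point (K := S.residueField s) (S.fromSpecResidueField s)
  MorphismProperty.of_isPullback (P := @IsAffineHom)
    (IsPullback.of_hasPullback f (S.fromSpecResidueField s)).flip this

theorem f_fiberι (z : f.fiber s) : f (f.fiberι s z) = s := by
  have : f.fiberι s z ∈ f ⁻¹' {s} := by rw [← f.range_fiberι s]; exact ⟨z, rfl⟩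
  exact this

theorem exists_fiberι {x : X} (hx : f x = s) : ∃ z : f.fiber s, f.fiberι s z = x := by
  have : x ∈ Set.range (f.fiberι s) := by rw [f.range_fiberι s]; exact hx
  exact this

/-- The map on stalks at a point of the fibre. -/
def atFib {M : X.Modules} {F : (f.fiber s).Modules} (ψ : M ⟶ (Scheme.Modules.pushforward (f.fiberι s)).obj F)
    (z : f.fiber s) : M.presheaf.stalk (f.fiberι s z) →+ F.presheaf.stalk z :=
  (pushStalk (f.fiberι s) F z).comp (stalkLin ψ (f.fiberι s z)).toAddMonoidHom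

theorem bijective_pushStalk (F : (f.fiber s).Modules) (z : f.fiber s) :
    Function.Bijective (pushStalk (f.fiberι s) F z) :=
  FlatQuotLib.bijective_pushStalk_of_isInducing (f.fiberι s) (f.fiberι s).isEmbedding.isInducing F z

/-- Models of `F`. -/
structure IsModel (F : (f.fiber s).Modules) (M : X.Modules)
    (ψ : M ⟶ (Scheme.Modules.pushforward (f.fiberι s)).obj F) : Prop where
  coh : Coh.IsCoh M
  supp : ∀ x ∈ CohB1.support M, s ⤳ f x
  bij : ∀ z, Function.Bijective (atFib f s ψ z)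

theorem specializes_of_support_push (F : (f.fiber s).Modules) {x : X}
    (hx : x ∈ CohB1.support ((Scheme.Modules.pushforward (f.fiberι s)).obj F)) : s ⤳ f x := by
  let g := f.fiberι s
  let N := (Scheme.Modules.pushforward g).obj F
  by_contra h
  refine hx (subsingleton_of_forall_eq 0 fun z => ?_)
  obtain ⟨U, hU, z, rfl⟩ := TopCat.Presheaf.exists_germ_eq N.presheaf z
  let W : X.Opens := ⟨f ⁻¹' (closure {s})ᶜ, isClosed_closure.isOpen_compl.preimage f.continuous⟩
  have hxW : x ∈ W := fun hc => h (specializes_iff_mem_closure.2 hc)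
  have h0 : g ⁻¹ᵁ (U ⊓ W) = ⊥ := eq_bot_iff.2 fun w hw => (hw.2 (by
    show f (g w) ∈ closure {s}
    rw [f_fiberι f s w]
    exact subset_closure rfl)).elim
  have hz : N.presheaf.map (homOfLE (inf_le_left : U ⊓ W ≤ U)).op z = 0 :=
    TopCat.Sheaf.eq_of_locally_eq' ⟨F.presheaf, F.isSheaf⟩ (fun e : Empty => e.elim) (g ⁻¹ᵁ (U ⊓ W))
      (fun e => e.elim) (h0.le.trans bot_le) _ _ (fun e => e.elim)
  rw [← N.presheaf.germ_res_apply (homOfLE (inf_le_left : U ⊓ W ≤ U)) x ⟨hU, hxW⟩ z, hz, map_zero]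

variable [IsNoetherian X]

theorem exists_model {F : (f.fiber s).Modules} (hF : Coh.IsCoh F) :
    ∃ (M : X.Modules) (ψ : M ⟶ (Scheme.Modules.pushforward (f.fiberι s)).obj F), IsModel f s F M ψ ∧ Mono ψ := by
  classical
  haveI := isAffineHom_fiberι f s
  let g := f.fiberι s
  haveI := hF.1
  haveI : Coh.IsQCoh ((Scheme.Modules.pushforward g).obj F) := QCohLib.isQCoh_pushforward F g
  obtain ⟨t, ht⟩ := isCompact_univ.elim_finite_subcover (fun W : X.affineOpens => ((W : X.Opens) : Set X))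
    (fun W => W.1.2) fun x _ => by
      obtain ⟨_, ⟨U, hU, rfl⟩, hx, -⟩ :=
        X.isBasis_affineOpens.exists_subset_of_mem_open (Set.mem_univ x) isOpen_univ
      exact Set.mem_iUnion.2 ⟨⟨U, hU⟩, hx⟩
  choose G hG using fun W : X.affineOpens => (QCohLib.finite_sections F hF.2 (W.2.preimage g)).fg_top
  obtain ⟨E, i, hi, hE, hEft, hs⟩ := Groth.Agent.S0014.exists_ft_through ((Scheme.Modules.pushforward g).obj F)
    (κ := Σ W : t, G W.1) (fun k => (k.1.1 : X.Opens)) (fun k => k.1.1.2) fun k => k.2.1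
  refine ⟨E, i, ⟨⟨hE, hEft⟩, fun x hx => specializes_of_support_push f s F (DevLib.support_subset_of_mono i hx),
    fun z => ⟨((bijective_pushStalk f s F z).1.comp ((mono_iff_stalk i).1 hi (g z))), fun v => ?_⟩⟩, hi⟩
  obtain ⟨W, hW, hz⟩ := Set.mem_iUnion₂.1 (ht (Set.mem_univ (g z)))
  have hv : v ∈ Submodule.span ((f.fiber s).presheaf.stalk z)
      ((fun σ => F.presheaf.germ (g ⁻¹ᵁ (W : X.Opens)) z hz σ) '' (G W : Set Γ(F, g ⁻¹ᵁ (W : X.Opens)))) :=
    (AmpleEmb.span_germ_eq_top F (W.2.preimage g) hz (hG W)).ge (Submodule.mem_top (x := v))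
  have hsm : ∀ (a : X.presheaf.stalk (g z)) m, atFib f s i z (a • m) = g.stalkMap z a • atFib f s i z m := fun a m => by
    show pushStalk g F z (stalkLin i (g z) (a • m)) = _
    rw [map_smul, pushStalk_smul]
    rfl
  induction hv using Submodule.span_induction with
  | mem y hy =>
    obtain ⟨σ, hσ, rfl⟩ := hy
    obtain ⟨e, he⟩ := hs ⟨⟨W, hW⟩, ⟨σ, hσ⟩⟩
    refine ⟨E.presheaf.germ (W : X.Opens) (g z) hz e, ?_⟩
    show pushStalk g F z (stalkLin i (g z) _) = _
    rw [stalkLin_germ, he]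
    exact pushStalk_germ g F z hz σ
  | zero => exact ⟨0, map_zero _⟩
  | add a b _ _ ha hb =>
    obtain ⟨a', rfl⟩ := ha
    obtain ⟨b', rfl⟩ := hb
    exact ⟨a' + b', map_add _ _ _⟩
  | smul c y _ hy =>
    obtain ⟨y', rfl⟩ := hy
    obtain ⟨c', rfl⟩ := FlatLocus.fiberι_stalkMap_surjective f s z c
    exact ⟨c' • y', hsm c' y'⟩

/-- Classes of sheaves supported strictly over the closure of `s`. -/
abbrev Low : AddSubgroup (K0LocLib.K X) :=
  AddSubgroup.closure {c | ∃ G : X.Modules, Coh.IsCoh G ∧ (∀ x ∈ CohB1.support G, s ⤳ f x ∧ f x ≠ s) ∧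
    c = K0LocLib.cl G}

theorem cl_sub_mem_low {A B : X.Modules} (φ : A ⟶ B) (hA : Coh.IsCoh A) (hB : Coh.IsCoh B)
    (sA : ∀ x ∈ CohB1.support A, s ⤳ f x) (sB : ∀ x ∈ CohB1.support B, s ⤳ f x)
    (h : ∀ z : f.fiber s, Function.Bijective (stalkLin φ (f.fiberι s z))) :
    K0LocLib.cl A - K0LocLib.cl B ∈ Low f s := by
  rw [K0LocLib.cl_sub φ hA hB]
  obtain ⟨hk, hc⟩ := QCohLib.isCoh_kernel_cokernel φ hA hB
  refine sub_mem (AddSubgroup.subset_closure ⟨_, hk, fun x hx => ?_, rfl⟩)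
    (AddSubgroup.subset_closure ⟨_, hc, fun x hx => ?_, rfl⟩)
  · refine ⟨sA x (DevLib.support_subset_of_mono (kernel.ι φ) hx), fun hfx => hx ?_⟩
    obtain ⟨z, rfl⟩ := exists_fiberι f s hfx
    refine subsingleton_of_forall_eq 0 fun w => (mono_iff_stalk (kernel.ι φ)).1 inferInstance _ ((h z).1 ?_)
    rw [map_zero, map_zero, ← LinearMap.comp_apply, ← stalkLin_comp, kernel.condition, DevLib.stalkLin_zero,
      LinearMap.zero_apply]
  · have hx' : x ∈ CohB1.support B := fun hB' => hx (subsingleton_of_forall_eq 0 fun w => by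
      haveI := hB'
      obtain ⟨b, rfl⟩ := (epi_iff_stalk (cokernel.π φ)).1 inferInstance x w
      rw [Subsingleton.elim b 0, map_zero])
    refine ⟨sB x hx', fun hfx => hx ?_⟩
    obtain ⟨z, rfl⟩ := exists_fiberι f s hfx
    refine subsingleton_of_forall_eq 0 fun w => ?_
    obtain ⟨b, rfl⟩ := (epi_iff_stalk (cokernel.π φ)).1 inferInstance _ w
    obtain ⟨a, rfl⟩ := (h z).2 b
    rw [← LinearMap.comp_apply, ← stalkLin_comp, cokernel.condition, DevLib.stalkLin_zero, LinearMap.zero_apply]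

theorem stalk_kernel {A B : X.Modules} (φ : A ⟶ B) {x : X} (m : A.presheaf.stalk x) :
    stalkLin φ x m = 0 ↔ ∃ w, stalkLin (kernel.ι φ) x w = m :=
  SyzLib.exact_stalkLin' (ShortComplex.mk (kernel.ι φ) φ (kernel.condition φ)) (ShortComplex.exact_kernel φ) x m

/-- The fibre product of two maps to a common module. -/
theorem exists_fibreProd {A B T : X.Modules} (a : A ⟶ T) (b : B ⟶ T) (hA : Coh.IsCoh A) (hB : Coh.IsCoh B)
    (hT : Coh.IsQCoh T) :
    ∃ (K : X.Modules) (p : K ⟶ A) (q : K ⟶ B), Coh.IsCoh K ∧ p ≫ a = q ≫ b ∧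
      CohB1.support K ⊆ CohB1.support A ∪ CohB1.support B ∧
      (∀ (x : X) w, stalkLin p x w = 0 → stalkLin q x w = 0 → w = 0) ∧
      ∀ (x : X) u v, stalkLin a x u = stalkLin b x v → ∃ w, stalkLin p x w = u ∧ stalkLin q x w = v := by
  let d : A ⊞ B ⟶ T := biprod.desc a (-b)
  have hAB := DevLib.isCoh_biprod hA hB
  have hk : Coh.IsCoh (kernel d) := QCohLib.isCoh_of_mono (kernel.ι d) hAB (QCohLib.isQCoh_image d hAB.1 hT).1
  have hpq : ∀ x (z : (A ⊞ B).presheaf.stalk x), stalkLin (biprod.inl : A ⟶ A ⊞ B) x (stalkLin biprod.fst x z) +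
      stalkLin (biprod.inr : B ⟶ A ⊞ B) x (stalkLin biprod.snd x z) = z := fun x z => by
    rw [← LinearMap.comp_apply, ← stalkLin_comp, ← LinearMap.comp_apply, ← stalkLin_comp, ← LinearMap.add_apply,
      ← DevLib.stalkLin_add, biprod.total, stalkLin_id]
    rfl
  refine ⟨kernel d, kernel.ι d ≫ biprod.fst, kernel.ι d ≫ biprod.snd, hk, ?_, fun x hx => ?_, fun x w h1 h2 => ?_,
    fun x u v huv => ?_⟩
  · have e : d = biprod.fst ≫ a - biprod.snd ≫ b := biprod.hom_ext' _ _ (by simp [d]) (by simp [d])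
    have h : kernel.ι d ≫ (biprod.fst ≫ a - biprod.snd ≫ b) = 0 :=
      (congrArg (fun t => kernel.ι d ≫ t) e).symm.trans (kernel.condition d)
    rw [Preadditive.comp_sub, sub_eq_zero] at h
    exact (Category.assoc _ _ _).trans (h.trans (Category.assoc _ _ _).symm)
  · have h1 := DevLib.support_subset_of_mono (kernel.ι d) hx
    by_contra hc
    simp only [Set.mem_union, not_or] at hc
    haveI := DevLib.subsingleton_of_notMem hc.1
    haveI := DevLib.subsingleton_of_notMem hc.2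
    refine h1 (subsingleton_of_forall_eq 0 fun z => ?_)
    rw [← hpq x z, Subsingleton.elim (stalkLin biprod.fst x z) 0, Subsingleton.elim (stalkLin biprod.snd x z) 0]
    simp
  · rw [stalkLin_comp, LinearMap.comp_apply] at h1 h2
    refine (mono_iff_stalk (kernel.ι d)).1 inferInstance x ?_
    rw [← hpq x (stalkLin (kernel.ι d) x w), h1, h2]
    simp
  · let m := stalkLin (biprod.inl : A ⟶ A ⊞ B) x u + stalkLin (biprod.inr : B ⟶ A ⊞ B) x v
    have e : stalkLin (biprod.inl ≫ d) x u + stalkLin (biprod.inr ≫ d) x v = 0 := by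
      rw [biprod.inl_desc, biprod.inr_desc]
      have hn : stalkLin (-b) x v = - stalkLin b x v := eq_neg_of_add_eq_zero_left (by
        rw [← LinearMap.add_apply, ← DevLib.stalkLin_add, neg_add_cancel, DevLib.stalkLin_zero, LinearMap.zero_apply])
      rw [hn, huv, add_neg_cancel]
    obtain ⟨w, hw⟩ := (stalk_kernel d m).1 (by
      rw [map_add]
      rwa [stalkLin_comp, stalkLin_comp, LinearMap.comp_apply, LinearMap.comp_apply] at e)
    refine ⟨w, ?_, ?_⟩ <;>
      rw [stalkLin_comp, LinearMap.comp_apply, hw, map_add, ← LinearMap.comp_apply, ← stalkLin_comp,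
        ← LinearMap.comp_apply, ← stalkLin_comp]
    · rw [biprod.inl_fst, biprod.inr_fst, stalkLin_id, DevLib.stalkLin_zero, LinearMap.zero_apply, add_zero]
      rfl
    · rw [biprod.inl_snd, biprod.inr_snd, stalkLin_id, DevLib.stalkLin_zero, LinearMap.zero_apply, zero_add]
      rfl

theorem atFib_comp {M N : X.Modules} {F : (f.fiber s).Modules} (p : M ⟶ N)
    (ψ : N ⟶ (Scheme.Modules.pushforward (f.fiberι s)).obj F) (z : f.fiber s) (w : M.presheaf.stalk (f.fiberι s z)) :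
    atFib f s (p ≫ ψ) z w = atFib f s ψ z (stalkLin p _ w) :=
  congrArg (pushStalk (f.fiberι s) F z) (by rw [stalkLin_comp]; rfl)

theorem atFib_push {M : X.Modules} {F G : (f.fiber s).Modules} (φ : F ⟶ G)
    (ψ : M ⟶ (Scheme.Modules.pushforward (f.fiberι s)).obj F) (z : f.fiber s) (w : M.presheaf.stalk (f.fiberι s z)) :
    atFib f s (ψ ≫ (Scheme.Modules.pushforward (f.fiberι s)).map φ) z w = stalkLin φ z (atFib f s ψ z w) := by
  rw [atFib_comp]
  show pushStalk (f.fiberι s) G z (stalkLin _ _ (stalkLin ψ _ w)) = stalkLin φ z (pushStalk (f.fiberι s) F z (stalkLin ψ _ w))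
  obtain ⟨U, hU, t, ht⟩ := TopCat.Presheaf.exists_germ_eq ((Scheme.Modules.pushforward (f.fiberι s)).obj F).presheaf
    (stalkLin ψ (f.fiberι s z) w)
  rw [← ht, stalkLin_germ, pushStalk_germ, pushStalk_germ, stalkLin_germ]
  rfl

theorem atFib_eq_iff {M N : X.Modules} {F : (f.fiber s).Modules}
    (a : M ⟶ (Scheme.Modules.pushforward (f.fiberι s)).obj F) (b : N ⟶ (Scheme.Modules.pushforward (f.fiberι s)).obj F)
    (z : f.fiber s) (u : M.presheaf.stalk (f.fiberι s z)) (v : N.presheaf.stalk (f.fiberι s z)) :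
    atFib f s a z u = atFib f s b z v ↔ stalkLin a _ u = stalkLin b _ v :=
  (bijective_pushStalk f s F z).1.eq_iff

theorem isQCoh_push {F : (f.fiber s).Modules} (hF : Coh.IsCoh F) :
    Coh.IsQCoh ((Scheme.Modules.pushforward (f.fiberι s)).obj F) := by
  haveI := isAffineHom_fiberι f s
  haveI := hF.1
  exact QCohLib.isQCoh_pushforward F (f.fiberι s)

/-- Two models agree modulo `Low`. -/
theorem model_unique {F : (f.fiber s).Modules} (hF : Coh.IsCoh F) {M M' : X.Modules} {ψ : M ⟶ _} {ψ' : M' ⟶ _}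
    (h : IsModel f s F M ψ) (h' : IsModel f s F M' ψ') : K0LocLib.cl M - K0LocLib.cl M' ∈ Low f s := by
  obtain ⟨K, p, q, hK, hc, hs, hz, hlift⟩ := exists_fibreProd ψ ψ' h.coh h'.coh (isQCoh_push f s hF)
  have hsK : ∀ x ∈ CohB1.support K, s ⤳ f x := fun x hx => (hs hx).elim (h.supp x) (h'.supp x)
  have hc' : ∀ z w, atFib f s ψ z (stalkLin p _ w) = atFib f s ψ' z (stalkLin q _ w) := fun z w => by
    rw [← atFib_comp, ← atFib_comp, hc]
  have b1 : ∀ z : f.fiber s, Function.Bijective (stalkLin p (f.fiberι s z)) := fun z =>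
    ⟨(injective_iff_map_eq_zero _).2 fun w hw => hz _ w hw ((h'.bij z).1 (by rw [← hc', hw, map_zero, map_zero])),
      fun u => by
        obtain ⟨v, hv⟩ := (h'.bij z).2 (atFib f s ψ z u)
        obtain ⟨w, hw, -⟩ := hlift _ u v ((atFib_eq_iff f s ψ ψ' z u v).1 hv.symm)
        exact ⟨w, hw⟩⟩
  have b2 : ∀ z : f.fiber s, Function.Bijective (stalkLin q (f.fiberι s z)) := fun z =>
    ⟨(injective_iff_map_eq_zero _).2 fun w hw => hz _ w ((h.bij z).1 (by rw [hc', hw, map_zero, map_zero])) hw,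
      fun v => by
        obtain ⟨u, hu⟩ := (h.bij z).2 (atFib f s ψ' z v)
        obtain ⟨w, -, hw⟩ := hlift _ u v ((atFib_eq_iff f s ψ ψ' z u v).1 hu)
        exact ⟨w, hw⟩⟩
  have := sub_mem (cl_sub_mem_low f s q hK h'.coh hsK h'.supp b2) (cl_sub_mem_low f s p hK h.coh hsK h.supp b1)
  rwa [sub_sub_sub_cancel_left] at this

/-- A chosen model. -/
def model (F : {F : (f.fiber s).Modules // Coh.IsCoh F}) : X.Modules := (exists_model f s F.2).choose

theorem model_spec (F : {F : (f.fiber s).Modules // Coh.IsCoh F}) :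
    ∃ ψ : model f s F ⟶ _, IsModel f s F.1 (model f s F) ψ ∧ Mono ψ :=
  (exists_model f s F.2).choose_spec

theorem model_rel (T : ShortComplex (f.fiber s).Modules) (h₁ : Coh.IsCoh T.X₁) (h₂ : Coh.IsCoh T.X₂)
    (h₃ : Coh.IsCoh T.X₃) (hT : T.ShortExact) :
    K0LocLib.cl (model f s ⟨_, h₂⟩) - K0LocLib.cl (model f s ⟨_, h₁⟩) - K0LocLib.cl (model f s ⟨_, h₃⟩) ∈ Low f s := by
  let P := Scheme.Modules.pushforward (f.fiberι s)
  obtain ⟨ψ₁, m₁, -⟩ := model_spec f s ⟨_, h₁⟩
  obtain ⟨ψ₂, m₂, -⟩ := model_spec f s ⟨_, h₂⟩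
  obtain ⟨ψ₃, m₃, hψ₃⟩ := model_spec f s ⟨_, h₃⟩
  -- a model of the middle term mapping to that of the quotient
  obtain ⟨K, p, q, hK, hc, hs, hz, hlift⟩ := exists_fibreProd (ψ₂ ≫ P.map T.g) ψ₃ m₂.coh m₃.coh (isQCoh_push f s h₃)
  have hsK : ∀ x ∈ CohB1.support K, s ⤳ f x := fun x hx => (hs hx).elim (m₂.supp x) (m₃.supp x)
  have hcz : ∀ z w, stalkLin T.g z (atFib f s ψ₂ z (stalkLin p _ w)) = atFib f s ψ₃ z (stalkLin q _ w) := fun z w => by
    rw [← atFib_push, ← atFib_comp, ← atFib_comp, hc]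
  have bp : ∀ z : f.fiber s, Function.Bijective (stalkLin p (f.fiberι s z)) := fun z =>
    ⟨(injective_iff_map_eq_zero _).2 fun w hw => hz _ w hw ((m₃.bij z).1 (by rw [← hcz, hw, map_zero, map_zero, map_zero])),
      fun u => by
        obtain ⟨v, hv⟩ := (m₃.bij z).2 (stalkLin T.g z (atFib f s ψ₂ z u))
        obtain ⟨w, hw, -⟩ := hlift _ u v ((atFib_eq_iff f s (ψ₂ ≫ P.map T.g) ψ₃ z u v).1 (by rw [atFib_push, hv]))
        exact ⟨w, hw⟩⟩
  -- a model of the sub mapping to the kernel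
  let ψK : K ⟶ P.obj T.X₂ := p ≫ ψ₂
  obtain ⟨K₁, p₁, q₁, hK₁, hc₁, hs₁, hz₁, hlift₁⟩ := exists_fibreProd ψK (ψ₁ ≫ P.map T.f) hK m₁.coh (isQCoh_push f s h₂)
  have hsK₁ : ∀ x ∈ CohB1.support K₁, s ⤳ f x := fun x hx => (hs₁ hx).elim (hsK x) (m₁.supp x)
  have hzero : p₁ ≫ q = 0 := by
    haveI : Mono ψ₃ := hψ₃
    rw [← cancel_mono ψ₃, Category.assoc, ← hc, ← Category.assoc p, ← Category.assoc, hc₁, Category.assoc,
      Category.assoc, ← P.map_comp, T.zero, P.map_zero, comp_zero, comp_zero, zero_comp]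
  have hc₁z : ∀ z w, atFib f s ψ₂ z (stalkLin p _ (stalkLin p₁ _ w)) = stalkLin T.f z (atFib f s ψ₁ z (stalkLin q₁ _ w)) :=
    fun z w => by rw [← atFib_push, ← atFib_comp, ← atFib_comp, ← atFib_comp, hc₁]
  have bq₁ : ∀ z : f.fiber s, Function.Bijective (stalkLin q₁ (f.fiberι s z)) := fun z => by
    refine ⟨(injective_iff_map_eq_zero _).2 fun w hw => hz₁ _ w ((bp z).1 ((m₂.bij z).1 ?_)) hw, fun v => ?_⟩
    · rw [hc₁z, hw, map_zero, map_zero, map_zero, map_zero]
    · obtain ⟨u₂, hu₂⟩ := (m₂.bij z).2 (stalkLin T.f z (atFib f s ψ₁ z v))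
      obtain ⟨u, rfl⟩ := (bp z).2 u₂
      obtain ⟨w, -, hw⟩ := hlift₁ _ u v ((atFib_eq_iff f s ψK (ψ₁ ≫ P.map T.f) z u v).1 (by
        rw [atFib_comp, atFib_push, hu₂]))
      exact ⟨w, hw⟩
  let l : K₁ ⟶ kernel q := kernel.lift q p₁ hzero
  obtain ⟨hkq, hcq⟩ := QCohLib.isCoh_kernel_cokernel q hK m₃.coh
  have bl : ∀ z : f.fiber s, Function.Bijective (stalkLin l (f.fiberι s z)) := fun z => by
    have hl : ∀ w, stalkLin (kernel.ι q) _ (stalkLin l (f.fiberι s z) w) = stalkLin p₁ _ w := fun w => by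
      rw [← LinearMap.comp_apply, ← stalkLin_comp, kernel.lift_ι]
    refine ⟨(injective_iff_map_eq_zero _).2 fun w hw => ?_, fun c => ?_⟩
    · have h0 : stalkLin p₁ _ w = 0 := by rw [← hl, hw, map_zero]
      refine hz₁ _ w h0 ((m₁.bij z).1 (DevLib.stalk_injective hT z ?_))
      rw [← hc₁z, h0, map_zero, map_zero, map_zero, map_zero]
    · let u := stalkLin (kernel.ι q) _ c
      have hu : stalkLin q _ u = 0 := (stalk_kernel q u).2 ⟨c, rfl⟩
      obtain ⟨a, ha⟩ := (DevLib.stalk_exact hT z (atFib f s ψ₂ z (stalkLin p _ u))).1 (by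
        rw [hcz, hu, map_zero])
      obtain ⟨v, rfl⟩ := (m₁.bij z).2 a
      obtain ⟨w, hw, -⟩ := hlift₁ _ u v ((atFib_eq_iff f s ψK (ψ₁ ≫ P.map T.f) z u v).1 (by
        rw [atFib_comp, atFib_push, ha]))
      exact ⟨w, (mono_iff_stalk (kernel.ι q)).1 inferInstance _ ((hl w).trans hw)⟩
  have sker : ∀ x ∈ CohB1.support (kernel q), s ⤳ f x := fun x hx => hsK x (DevLib.support_subset_of_mono (kernel.ι q) hx)
  have e1 := cl_sub_mem_low f s p hK m₂.coh hsK m₂.supp bp
  have e2 := cl_sub_mem_low f s q₁ hK₁ m₁.coh hsK₁ m₁.supp bq₁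
  have e3 := cl_sub_mem_low f s l hK₁ hkq hsK₁ sker bl
  have e4 : K0LocLib.cl (cokernel q) ∈ Low f s := by
    refine AddSubgroup.subset_closure ⟨_, hcq, fun x hx => ?_, rfl⟩
    refine ⟨m₃.supp x fun hB' => hx (subsingleton_of_forall_eq 0 fun w => ?_), fun hfx => hx ?_⟩
    · haveI := hB'
      obtain ⟨b, rfl⟩ := (epi_iff_stalk (cokernel.π q)).1 inferInstance x w
      rw [Subsingleton.elim b 0, map_zero]
    · obtain ⟨z, rfl⟩ := exists_fiberι f s hfx
      refine subsingleton_of_forall_eq 0 fun w => ?_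
      obtain ⟨b, rfl⟩ := (epi_iff_stalk (cokernel.π q)).1 inferInstance _ w
      obtain ⟨a, ha⟩ := DevLib.stalk_surjective hT z (atFib f s ψ₃ z b)
      obtain ⟨u, hu⟩ := (m₂.bij z).2 a
      obtain ⟨k, -, rfl⟩ := hlift _ u b ((atFib_eq_iff f s (ψ₂ ≫ P.map T.g) ψ₃ z u b).1 (by rw [atFib_push, hu, ha]))
      rw [← LinearMap.comp_apply, ← stalkLin_comp, cokernel.condition, DevLib.stalkLin_zero, LinearMap.zero_apply]
  have e5 := K0LocLib.cl_sub q hK m₃.coh
  have key := sub_mem (sub_mem (sub_mem e2 e3) e1) e4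
  convert key using 1
  rw [show K0LocLib.cl K = K0LocLib.cl (kernel q) - K0LocLib.cl (cokernel q) + K0LocLib.cl (model f s ⟨_, h₃⟩) from
    eq_add_of_sub_eq e5]
  abel

/-- Classes on the fibre, as classes on `X` modulo `Low`. -/
def psi : K0LocLib.K (f.fiber s) →+ K0LocLib.K X ⧸ Low f s :=
  QuotientAddGroup.lift _ (FreeAbelianGroup.lift fun F : {F : (f.fiber s).Modules // Coh.IsCoh F} =>
    (QuotientAddGroup.mk (K0LocLib.cl (model f s F)) : K0LocLib.K X ⧸ Low f s)) (by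
    rw [KZero.relSub, AddSubgroup.closure_le]
    rintro _ ⟨T, h₁, h₂, h₃, hT, rfl⟩
    simp only [SetLike.mem_coe, AddMonoidHom.mem_ker, map_sub, FreeAbelianGroup.lift_apply_of]
    rw [← QuotientAddGroup.mk_sub, ← QuotientAddGroup.mk_sub, QuotientAddGroup.eq_zero_iff]
    exact model_rel f s T h₁ h₂ h₃ hT)

theorem psi_eq {F : (f.fiber s).Modules} (hF : Coh.IsCoh F) {M : X.Modules} {ψ : M ⟶ _} (h : IsModel f s F M ψ) :
    psi f s (K0LocLib.cl F) = QuotientAddGroup.mk (K0LocLib.cl M) := by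
  rw [K0LocLib.cl, KZero.clSub, dif_pos hF]
  refine (FreeAbelianGroup.lift_apply_of _ _).trans (QuotientAddGroup.eq_iff_sub_mem.2 ?_)
  obtain ⟨ψ₀, h₀, -⟩ := model_spec f s ⟨F, hF⟩
  exact model_unique f s hF h₀ h

end Groth.Agent.FibGenLib
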